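import Groth.Agent.SubMod72.Main
import Groth.Prelude.Def_RelSpec
import Mathlib.RingTheory.FiniteType

/-! Subalgebras generated by finite type submodules of quasi-coherent algebras. -/

set_option autoImplicit false
set_option backward.isDefEq.respectTransparency.types false

noncomputable section

universe u

open CategoryTheory Limits AlgebraicGeometry TopologicalSpace Opposite
open Groth.Agent.QC70 Groth.Agent.SubMod72

namespace Groth.Agent.AlgSub72

variable {X : Scheme.{u}} (B : RelSpec.QCAlg X)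

/-- Sections of a quasi-coherent algebra. -/
abbrev bSec (W : X.Opens) : CommRingCat.{u} := B.presheaf.obj (op W)

/-- Restriction of sections of the algebra. -/
abbrev bRes {V W : X.Opens} (h : V ≤ W) : bSec B W ⟶ bSec B V :=
  B.presheaf.map (homOfLE h).op

/-- The structure map on sections. -/
abbrev bStr (W : X.Opens) : Γ(X, W) →+* bSec B W := (B.str.app (op W)).hom

/-- A section of the module as a section of the algebra. -/
abbrev toB {W : X.Opens} (x : Γ(B.toModule, W)) : bSec B W := x

/-- A section of the algebra as a section of the module. -/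
abbrev ofB {W : X.Opens} (x : bSec B W) : Γ(B.toModule, W) := x

theorem toB_res {V W : X.Opens} (h : V ≤ W) (x : Γ(B.toModule, W)) :
    toB B (res B.toModule h x) = bRes B h (toB B x) := rfl

theorem toB_smul {W : X.Opens} (a : Γ(X, W)) (x : Γ(B.toModule, W)) :
    toB B (a • x) = bStr B W a * toB B x := rfl

theorem bRes_str {V W : X.Opens} (h : V ≤ W) (a : Γ(X, W)) :
    bRes B h (bStr B W a) = bStr B V (resO X h a) :=
  congr($(B.str.naturality (homOfLE h).op) a).symm

theorem bRes_bRes {U V W : X.Opens} (h₁ : V ≤ W) (h₂ : U ≤ V) (x : bSec B W) :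
    bRes B h₂ (bRes B h₁ x) = bRes B (h₂.trans h₁) x := by
  simp only [← ConcreteCategory.comp_apply, bRes, ← B.presheaf.map_comp]
  rfl

theorem bRes_self {W : X.Opens} (x : bSec B W) : bRes B (le_refl W) x = x := by
  simp [bRes]

instance isQuasicoherent_toModule : B.toModule.IsQuasicoherent := by
  refine isQuasicoherent_of_forall_isLocAt _ fun U hU => ⟨fun f s => ?_, fun f t ht => ?_⟩
  · let _ : Algebra (bSec B U) (bSec B (X.basicOpen f)) := (bRes B (X.basicOpen_le f)).hom.toAlgebra
    have : IsLocalization.Away (bStr B U f) (bSec B (X.basicOpen f)) := B.isQC U hU f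
    obtain ⟨⟨a, ⟨_, n, rfl⟩⟩, ha⟩ := IsLocalization.surj (Submonoid.powers (bStr B U f)) (toB B s)
    refine ⟨n, ofB B a, ?_⟩
    show bRes B (X.basicOpen_le f) a =
      bStr B _ (resO X (X.basicOpen_le f) f ^ n) * toB B s
    rw [← resO_pow, ← bRes_str, map_pow, mul_comm]
    exact ha.symm
  · let _ : Algebra (bSec B U) (bSec B (X.basicOpen f)) := (bRes B (X.basicOpen_le f)).hom.toAlgebra
    have : IsLocalization.Away (bStr B U f) (bSec B (X.basicOpen f)) := B.isQC U hU f
    obtain ⟨⟨_, n, rfl⟩, hc⟩ := (IsLocalization.map_eq_zero_iff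
      (Submonoid.powers (bStr B U f)) (bSec B (X.basicOpen f)) (toB B t)).mp ht
    refine ⟨n, ?_⟩
    show bStr B U (f ^ n) * toB B t = 0
    rw [map_pow]
    exact hc

variable (P : Sub B.toModule)

/-- Generators over `W`: the functions and the sections of `P`. -/
def gens (W : X.Opens) : Set (bSec B W) :=
  Set.range (bStr B W) ∪ toB B '' (P.carrier W : Set Γ(B.toModule, W))

/-- The subring generated over `W`. -/
def closureAt (W : X.Opens) : Subring (bSec B W) := Subring.closure (gens B P W)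

theorem closureAt_res {V W : X.Opens} (h : V ≤ W) {x : bSec B W} (hx : x ∈ closureAt B P W) :
    bRes B h x ∈ closureAt B P V := by
  have : closureAt B P W ≤ (closureAt B P V).comap (bRes B h).hom := by
    refine Subring.closure_le.mpr ?_
    rintro _ (⟨a, rfl⟩ | ⟨y, hy, rfl⟩)
    · exact Subring.subset_closure (Or.inl ⟨_, (bRes_str B h a).symm⟩)
    · exact Subring.subset_closure (Or.inr ⟨res B.toModule h y, P.res_mem h hy, rfl⟩)
  exact this hx

/-- The sheaf of subrings generated. -/
def algCarrier (W : X.Opens) : Subring (bSec B W) where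
  carrier := {x | ∀ p ∈ W, ∃ (V : X.Opens) (h : V ≤ W), p ∈ V ∧ bRes B h x ∈ closureAt B P V}
  mul_mem' := by
    intro x y hx hy p hp
    obtain ⟨V, h, hpV, e⟩ := hx p hp
    obtain ⟨V', h', hpV', e'⟩ := hy p hp
    refine ⟨V ⊓ V', inf_le_left.trans h, ⟨hpV, hpV'⟩, ?_⟩
    have a := closureAt_res B P (inf_le_left : V ⊓ V' ≤ V) e
    have b := closureAt_res B P (inf_le_right : V ⊓ V' ≤ V') e'
    rw [bRes_bRes] at a b
    rw [map_mul]
    exact mul_mem a b
  one_mem' := fun p hp => ⟨W, le_rfl, hp, by rw [map_one]; exact one_mem _⟩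
  add_mem' := by
    intro x y hx hy p hp
    obtain ⟨V, h, hpV, e⟩ := hx p hp
    obtain ⟨V', h', hpV', e'⟩ := hy p hp
    refine ⟨V ⊓ V', inf_le_left.trans h, ⟨hpV, hpV'⟩, ?_⟩
    have a := closureAt_res B P (inf_le_left : V ⊓ V' ≤ V) e
    have b := closureAt_res B P (inf_le_right : V ⊓ V' ≤ V') e'
    rw [bRes_bRes] at a b
    rw [map_add]
    exact add_mem a b
  zero_mem' := fun p hp => ⟨W, le_rfl, hp, by rw [map_zero]; exact zero_mem _⟩
  neg_mem' := by
    intro x hx p hp
    obtain ⟨V, h, hpV, e⟩ := hx p hp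
    exact ⟨V, h, hpV, by rw [map_neg]; exact neg_mem e⟩

theorem closureAt_le (W : X.Opens) : closureAt B P W ≤ algCarrier B P W :=
  fun x hx _ hp => ⟨W, le_rfl, hp, by rw [bRes_self]; exact hx⟩

theorem algCarrier_res {V W : X.Opens} (h : V ≤ W) {x : bSec B W} (hx : x ∈ algCarrier B P W) :
    bRes B h x ∈ algCarrier B P V := by
  intro p hp
  obtain ⟨V', h', hpV', e⟩ := hx p (h hp)
  refine ⟨V ⊓ V', inf_le_left, ⟨hp, hpV'⟩, ?_⟩
  have a := closureAt_res B P (inf_le_right : V ⊓ V' ≤ V') e
  rw [bRes_bRes] at a ⊢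
  exact a

theorem isUnit_bStr_res {U : X.Opens} (f : Γ(X, U)) :
    IsUnit (bRes B (X.basicOpen_le f) (bStr B U f)) := by
  rw [bRes_str]
  have h0 : IsUnit (resO X (X.basicOpen_le f) f) := RingedSpace.isUnit_res_basicOpen _ f
  exact h0.map (bStr B _)

variable {B P} (hP : FG ⊤ P)
include hP

/-- Elements generated over `D(g)` come from elements generated over the affine `U`. -/
theorem exists_res_eq_pow_mul {U : X.Opens} (hU : IsAffineOpen U) (g : Γ(X, U))
    {z : bSec B (X.basicOpen g)} (hz : z ∈ closureAt B P (X.basicOpen g)) :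
    ∃ (k : ℕ) (w : bSec B U), w ∈ closureAt B P U ∧
      bRes B (X.basicOpen_le g) w = bRes B (X.basicOpen_le g) (bStr B U g) ^ k * z := by
  have hq := (isQuasicoherent_isFiniteType_toMod hP).1
  have hg : bStr B U g ∈ closureAt B P U := Subring.subset_closure (Or.inl ⟨g, rfl⟩)
  induction hz using Subring.closure_induction with
  | mem y hy =>
    rcases hy with ⟨a, rfl⟩ | ⟨y, hy, rfl⟩
    · obtain ⟨n, c, hc⟩ := (isLocAt_unit hU).exists_of g (toUnit a)
      have hc' : resO X (X.basicOpen_le g) (show Γ(X, U) from c) =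
          resO X (X.basicOpen_le g) g ^ n * a := hc
      refine ⟨n, bStr B U c, Subring.subset_closure (Or.inl ⟨_, rfl⟩), ?_⟩
      rw [bRes_str, hc', map_mul, map_pow, bRes_str]
    · obtain ⟨y', rfl⟩ := (mem_iff_exists P y).mp hy
      obtain ⟨n, t, ht⟩ := (isLocAt_of_isQuasicoherent (toMod P) hU).exists_of g y'
      refine ⟨n, toB B ((toModι P).app U t),
        Subring.subset_closure (Or.inr ⟨_, (mem_iff_exists P _).mpr ⟨t, rfl⟩, rfl⟩), ?_⟩
      rw [← toB_res, ← coe_res, ht, Scheme.Modules.Hom.app_smul, toB_smul, map_pow, bRes_str]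
  | zero => exact ⟨0, 0, zero_mem _, by simp⟩
  | one => exact ⟨0, 1, one_mem _, by simp⟩
  | add y z _ _ hy hz =>
    obtain ⟨k, w, hw, e⟩ := hy
    obtain ⟨l, v, hv, e'⟩ := hz
    refine ⟨k + l, bStr B U g ^ l * w + bStr B U g ^ k * v, add_mem
      (mul_mem (pow_mem hg l) hw) (mul_mem (pow_mem hg k) hv), ?_⟩
    simp only [map_add, map_mul, map_pow, e, e']
    ring
  | neg y _ hy =>
    obtain ⟨k, w, hw, e⟩ := hy
    exact ⟨k, -w, neg_mem hw, by rw [map_neg, e, mul_neg]⟩
  | mul y z _ _ hy hz =>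
    obtain ⟨k, w, hw, e⟩ := hy
    obtain ⟨l, v, hv, e'⟩ := hz
    exact ⟨k + l, w * v, mul_mem hw hv, by rw [map_mul, e, e']; ring⟩

/-- On affine opens, local generation is generation. -/
theorem algCarrier_eq_of_isAffineOpen {U : X.Opens} (hU : IsAffineOpen U) :
    algCarrier B P U = closureAt B P U := by
  refine le_antisymm (fun x hx => ?_) (closureAt_le B P U)
  have hstr : ∀ a, bStr B U a ∈ closureAt B P U := fun a => Subring.subset_closure (Or.inl ⟨a, rfl⟩)
  let I : Ideal Γ(X, U) :=
    { carrier := {r | bStr B U r * x ∈ closureAt B P U}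
      add_mem' := fun {a b} ha hb => by
        simp only [Set.mem_ofPred_eq] at ha hb ⊢; rw [map_add, add_mul]; exact add_mem ha hb
      zero_mem' := by simp only [Set.mem_ofPred_eq, map_zero, zero_mul]; exact zero_mem _
      smul_mem' := fun c a ha => by
        simp only [Set.mem_ofPred_eq, smul_eq_mul, map_mul, mul_assoc] at ha ⊢
        exact mul_mem (hstr c) ha }
  have key : ∀ p : U, ∃ g : Γ(X, U), (p : X) ∈ X.basicOpen g ∧ g ∈ I.radical := by
    intro p
    obtain ⟨V, h, hpV, e⟩ := hx p p.2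
    obtain ⟨g, hg, hpg⟩ := hU.exists_basicOpen_le ⟨(p : X), hpV⟩ p.2
    have a := closureAt_res B P hg e
    rw [bRes_bRes] at a
    obtain ⟨k, w, hw, e'⟩ := exists_res_eq_pow_mul hP hU g a
    obtain ⟨m, hm⟩ := (isLocAt_of_isQuasicoherent B.toModule hU).eq_zero_of g
      (g ^ k • ofB B x - ofB B w) (by
        show bRes B (X.basicOpen_le g) (bStr B U (g ^ k) * x - w) = 0
        rw [map_sub, map_mul, e', map_pow, map_pow, sub_self])
    have hm' : bStr B U (g ^ m) * (bStr B U (g ^ k) * x - w) = 0 := hm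
    refine ⟨g, hpg, m + k, ?_⟩
    show bStr B U (g ^ (m + k)) * x ∈ closureAt B P U
    rw [mul_sub, sub_eq_zero, ← mul_assoc, ← map_mul, ← pow_add] at hm'
    rw [hm']
    exact mul_mem (hstr _) hw
  choose g hpg hg using key
  have hspan : Ideal.span (Set.range g) = ⊤ :=
    (hU.iSup_basicOpen_eq_self_iff (s := Set.range g)).mp <| le_antisymm
      (iSup_le fun r => X.basicOpen_le _)
      fun q hq => Opens.mem_iSup.mpr ⟨⟨g ⟨q, hq⟩, ⟨q, hq⟩, rfl⟩, hpg ⟨q, hq⟩⟩
  have hI : I = ⊤ := by
    rw [← Ideal.radical_eq_top]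
    refine top_le_iff.mp (hspan ▸ Ideal.span_le.mpr ?_)
    rintro _ ⟨p, rfl⟩
    exact hg p
  have h1 : bStr B U 1 * x ∈ closureAt B P U := by
    show (1 : Γ(X, U)) ∈ I
    rw [hI]; exact Submodule.mem_top
  rwa [map_one, one_mul] at h1

omit hP

variable (B P)

/-- The presheaf of subrings. -/
def algPresheaf : TopCat.Presheaf CommRingCat.{u} X.carrier where
  obj W := CommRingCat.of (algCarrier B P W.unop)
  map {V W} f := CommRingCat.ofHom (((B.presheaf.map f).hom.comp (algCarrier B P V.unop).subtype).codRestrict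
    (algCarrier B P W.unop) fun x => algCarrier_res B P f.unop.le x.2)
  map_id V := by ext x; exact congr($(B.presheaf.map_id V) x.1)
  map_comp f g := by ext x; exact congr($(B.presheaf.map_comp f g) x.1)

theorem isSheaf_algPresheaf : (algPresheaf B P).IsSheaf := by
  rw [TopCat.Presheaf.isSheaf_iff_isSheafUniqueGluing]
  intro ι U sf hsf
  obtain ⟨t, ht, huniq⟩ := TopCat.Sheaf.existsUnique_gluing ⟨_, B.isSheaf⟩ U
    (fun i => (show algCarrier B P (U i) from sf i).1)
    (fun i j => congrArg Subtype.val (hsf i j))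
  have htP : (show bSec B (iSup U) from t) ∈ algCarrier B P (iSup U) := by
    intro p hp
    obtain ⟨i, hi⟩ := Opens.mem_iSup.mp hp
    obtain ⟨V, hV, hpV, e⟩ := (show algCarrier B P (U i) from sf i).2 p hi
    refine ⟨V, hV.trans (le_iSup U i), hpV, ?_⟩
    have h1 : bRes B (le_iSup U i) t = (show algCarrier B P (U i) from sf i).1 := ht i
    rw [← bRes_bRes B (le_iSup U i) hV, h1]
    exact e
  exact ⟨(⟨t, htP⟩ : algCarrier B P (iSup U)), fun i => Subtype.ext (ht i),
    fun s hs => Subtype.ext (huniq _ fun i => congrArg Subtype.val (hs i))⟩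

/-- The structure map. -/
def algStr : X.presheaf ⟶ algPresheaf B P where
  app W := CommRingCat.ofHom ((bStr B W.unop).codRestrict (algCarrier B P W.unop)
    fun a => closureAt_le B P _ (Subring.subset_closure (Or.inl ⟨a, rfl⟩)))
  naturality V W f := by ext a; refine Subtype.ext ?_; exact congr($(B.str.naturality f) a)

variable {B P}

include hP in
theorem isQC_algPresheaf : RelSpec.IsQC (algPresheaf B P) (algStr B P) := by
  intro U hU r
  let _ : Algebra (algCarrier B P U) (algCarrier B P (X.basicOpen r)) :=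
    ((algPresheaf B P).map (homOfLE (X.basicOpen_le r)).op).hom.toAlgebra
  show IsLocalization.Away
    (⟨bStr B U r, closureAt_le B P _ (Subring.subset_closure (Or.inl ⟨r, rfl⟩))⟩ : algCarrier B P U)
    (algCarrier B P (X.basicOpen r))
  refine ⟨?_, fun z => ?_, fun {a b} hab => ?_⟩
  · rintro ⟨_, n, rfl⟩
    rw [map_pow]
    refine IsUnit.pow n ?_
    have h0 : IsUnit (resO X (X.basicOpen_le r) r) := RingedSpace.isUnit_res_basicOpen _ r
    have h1 := h0.map ((algStr B P).app (op (X.basicOpen r))).hom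
    have he : algebraMap (algCarrier B P U) (algCarrier B P (X.basicOpen r))
        ⟨bStr B U r, closureAt_le B P _ (Subring.subset_closure (Or.inl ⟨r, rfl⟩))⟩ =
        ((algStr B P).app (op (X.basicOpen r))).hom (resO X (X.basicOpen_le r) r) :=
      Subtype.ext (bRes_str B _ r)
    rw [he]
    exact h1
  · -- restrict `z` locally generated to a multiple generated over `U`
    have hD := hU.basicOpen r
    obtain ⟨k, w, hw, e⟩ := exists_res_eq_pow_mul hP hU r
      (show z.1 ∈ closureAt B P (X.basicOpen r) by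
        rw [← algCarrier_eq_of_isAffineOpen hP hD]; exact z.2)
    refine ⟨⟨⟨w, closureAt_le B P _ hw⟩, ⟨_, k, rfl⟩⟩, Subtype.ext ?_⟩
    show z.1 * bRes B (X.basicOpen_le r) (bStr B U r ^ k) = bRes B (X.basicOpen_le r) w
    rw [e, map_pow, mul_comm]
  · let _ : Algebra (bSec B U) (bSec B (X.basicOpen r)) := (bRes B (X.basicOpen_le r)).hom.toAlgebra
    have : IsLocalization.Away (bStr B U r) (bSec B (X.basicOpen r)) := B.isQC U hU r
    obtain ⟨⟨_, n, rfl⟩, hc⟩ := (IsLocalization.eq_iff_exists
      (Submonoid.powers (bStr B U r)) (bSec B (X.basicOpen r))).mp (congrArg Subtype.val hab)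
    exact ⟨⟨_, n, rfl⟩, Subtype.ext hc⟩

/-- The quasi-coherent subalgebra generated by `P`. -/
def algSub (hP : FG ⊤ P) : RelSpec.QCAlg X where
  presheaf := algPresheaf B P
  isSheaf := isSheaf_algPresheaf B P
  str := algStr B P
  isQC := isQC_algPresheaf hP

/-- The inclusion of the generated subalgebra. -/
def algSubι (hP : FG ⊤ P) : algSub hP ⟶ B where
  hom :=
    { app := fun W => CommRingCat.ofHom (algCarrier B P W.unop).subtype
      naturality := fun _ _ _ => rfl }
  comm := rfl

include hP in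
theorem finiteType_closureAt {U : X.Opens} (hU : IsAffineOpen U) :
    ∃ S : Set (bSec B U), S.Finite ∧
      closureAt B P U = Subring.closure (Set.range (bStr B U) ∪ S) := by
  have hq := (isQuasicoherent_isFiniteType_toMod hP).1
  have := (isQuasicoherent_isFiniteType_toMod hP).2
  have := finite_sections_of_isFiniteType (toMod P) hU
  obtain ⟨n, s, hs⟩ := Module.Finite.exists_fin (R := Γ(X, U)) (M := Γ(toMod P, U))
  let S : Set (bSec B U) := Set.range fun j => toB B ((toModι P).app U (s j))
  refine ⟨S, Set.finite_range _, le_antisymm (Subring.closure_le.mpr ?_)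
    (Subring.closure_mono (Set.union_subset_union_right _ ?_))⟩
  · rintro _ (⟨a, rfl⟩ | ⟨y, hy, rfl⟩)
    · exact Subring.subset_closure (Or.inl ⟨a, rfl⟩)
    obtain ⟨y', rfl⟩ := (mem_iff_exists P y).mp hy
    have : y' ∈ Submodule.span Γ(X, U) (Set.range s) := hs ▸ Submodule.mem_top
    induction this using Submodule.span_induction with
    | mem z hz => obtain ⟨j, rfl⟩ := hz; exact Subring.subset_closure (Or.inr ⟨j, rfl⟩)
    | zero => rw [map_zero]; exact zero_mem _
    | add z w _ _ hz hw =>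
      rw [map_add]
      exact add_mem (hz ((mem_iff_exists P _).mpr ⟨z, rfl⟩)) (hw ((mem_iff_exists P _).mpr ⟨w, rfl⟩))
    | smul a z _ hz =>
      rw [Scheme.Modules.Hom.app_smul]
      exact mul_mem (Subring.subset_closure (Or.inl ⟨a, rfl⟩))
        (hz ((mem_iff_exists P _).mpr ⟨z, rfl⟩))
  · rintro _ ⟨j, rfl⟩
    exact ⟨_, (mem_iff_exists P _).mpr ⟨s j, rfl⟩, rfl⟩

theorem finiteType_str (hP : FG ⊤ P) {U : X.Opens} (hU : IsAffineOpen U) :
    ((algSub hP).str.app (op U)).hom.FiniteType := by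
  obtain ⟨S, hS, hSU⟩ := finiteType_closureAt hP hU
  let φ : Γ(X, U) →+* algCarrier B P U := ((algSub hP).str.app (op U)).hom
  let _ := φ.toAlgebra
  let T : Set (algCarrier B P U) := Subtype.val ⁻¹' S
  have hT : T.Finite := hS.preimage Subtype.val_injective.injOn
  show Algebra.FiniteType Γ(X, U) (algCarrier B P U)
  refine ⟨⟨hT.toFinset, ?_⟩⟩
  rw [Set.Finite.coe_toFinset, eq_top_iff]
  rintro ⟨x, hx⟩ -
  have hx' : x ∈ Subring.closure (Set.range (bStr B U) ∪ S) := by
    rw [← hSU, ← algCarrier_eq_of_isAffineOpen hP hU]; exact hx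
  have key : Subring.closure (Set.range (bStr B U) ∪ S) ≤
      (Algebra.adjoin Γ(X, U) T).toSubring.map (algCarrier B P U).subtype := by
    refine Subring.closure_le.mpr ?_
    rintro y (⟨a, rfl⟩ | hy)
    · exact ⟨_, (Algebra.adjoin Γ(X, U) T).algebraMap_mem a, rfl⟩
    · have hy' : y ∈ algCarrier B P U := by
        rw [algCarrier_eq_of_isAffineOpen hP hU, hSU]
        exact Subring.subset_closure (Or.inr hy)
      exact ⟨⟨y, hy'⟩, Algebra.subset_adjoin (show (⟨y, hy'⟩ : algCarrier B P U) ∈ T from hy), rfl⟩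
  obtain ⟨z, hz, hzx⟩ := key hx'
  exact (show z = ⟨x, hx⟩ from Subtype.ext hzx) ▸ hz

end Groth.Agent.AlgSub72
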