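import Groth.Agent.AlgSub72.Basic

/-! Generating finite type submodules of finitely generated quasi-coherent algebras. -/

set_option autoImplicit false
set_option backward.isDefEq.respectTransparency.types false

noncomputable section

universe u

open CategoryTheory Limits AlgebraicGeometry TopologicalSpace Opposite
open Groth.Agent.QC70 Groth.Agent.SubMod72

namespace Groth.Agent.AlgSub72

section Sup

variable {X : Scheme.{u}} {F : X.Modules}

theorem res_mem_sup {V W : X.Opens} (h : V ≤ W) (P Q : Sub F) {x : Γ(F, W)}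
    (hx : x ∈ P.carrier W ⊔ Q.carrier W) : res F h x ∈ P.carrier V ⊔ Q.carrier V := by
  obtain ⟨y, hy, z, hz, rfl⟩ := Submodule.mem_sup.mp hx
  rw [res_add]
  exact Submodule.add_mem_sup (P.res_mem h hy) (Q.res_mem h hz)

/-- The sum of two subsheaves. -/
def supSub (P Q : Sub F) : Sub F where
  carrier W :=
    { carrier := {x | ∀ p ∈ W, ∃ (V : X.Opens) (h : V ≤ W), p ∈ V ∧
        res F h x ∈ P.carrier V ⊔ Q.carrier V}
      add_mem' := by
        intro x y hx hy p hp
        obtain ⟨V, h, hpV, e⟩ := hx p hp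
        obtain ⟨V', h', hpV', e'⟩ := hy p hp
        refine ⟨V ⊓ V', inf_le_left.trans h, ⟨hpV, hpV'⟩, ?_⟩
        have a := res_mem_sup (inf_le_left : V ⊓ V' ≤ V) P Q e
        have b := res_mem_sup (inf_le_right : V ⊓ V' ≤ V') P Q e'
        rw [res_res] at a b
        rw [res_add]
        exact add_mem a b
      zero_mem' := fun p hp => ⟨W, le_rfl, hp, by rw [res_zero]; exact zero_mem _⟩
      smul_mem' := fun a x hx p hp => by
        obtain ⟨V, h, hpV, e⟩ := hx p hp
        exact ⟨V, h, hpV, by rw [res_smul]; exact Submodule.smul_mem _ _ e⟩ }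
  res_mem {V' W} h x hx p hp := by
    obtain ⟨V, h', hpV, e⟩ := hx p (h hp)
    refine ⟨V' ⊓ V, inf_le_left, ⟨hp, hpV⟩, ?_⟩
    have a := res_mem_sup (inf_le_right : V' ⊓ V ≤ V) P Q e
    rw [res_res] at a ⊢
    exact a
  local_mem {W} x hx p hp := by
    obtain ⟨V', h, hp', e⟩ := hx p hp
    obtain ⟨V, h', hpV, e'⟩ := e p hp'
    exact ⟨V, h'.trans h, hpV, by rw [← res_res h h']; exact e'⟩

theorem le_supSub_left (P Q : Sub F) (W : X.Opens) : P.carrier W ≤ (supSub P Q).carrier W :=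
  fun _ hx _ hp => ⟨W, le_rfl, hp, by rw [res_self]; exact Submodule.mem_sup_left hx⟩

theorem le_supSub_right (P Q : Sub F) (W : X.Opens) : Q.carrier W ≤ (supSub P Q).carrier W :=
  fun _ hx _ hp => ⟨W, le_rfl, hp, by rw [res_self]; exact Submodule.mem_sup_right hx⟩

theorem fg_supSub {P Q : Sub F} {U : X.Opens} (hP : FG U P) (hQ : FG U Q) :
    FG U (supSub P Q) := by
  intro p hp
  obtain ⟨V, S, hV, hpV, hS, e⟩ := hP p hp
  obtain ⟨V', T, hV', hpV', hT, e'⟩ := hQ p hp
  let S' : Set Γ(F, V ⊓ V') := res F (inf_le_left : V ⊓ V' ≤ V) '' S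
  let T' : Set Γ(F, V ⊓ V') := res F (inf_le_right : V ⊓ V' ≤ V') '' T
  have eS : AgreeOn (V ⊓ V') P (locSpan S') :=
    (e.mono inf_le_left).trans (locSpan_res inf_le_left S)
  have eT : AgreeOn (V ⊓ V') Q (locSpan T') :=
    (e'.mono inf_le_right).trans (locSpan_res inf_le_right T)
  refine ⟨V ⊓ V', S' ∪ T', inf_le_left.trans hV, ⟨hpV, hpV'⟩,
    (hS.image _).union (hT.image _), fun W hW => le_antisymm ?_ ?_⟩
  · intro x hx
    refine (locSpan (S' ∪ T')).local_mem x fun q hq => ?_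
    obtain ⟨W', h, hq', hxW'⟩ := hx q hq
    refine ⟨W', h, hq', ?_⟩
    have hle : P.carrier W' ⊔ Q.carrier W' ≤ (locSpan (S' ∪ T')).carrier W' := by
      refine sup_le ?_ ?_
      · rw [eS W' (h.trans hW)]
        exact span_le_of_forall_mem (h.trans hW) fun s hs =>
          self_mem_locSpan (h.trans hW) (Or.inl hs)
      · rw [eT W' (h.trans hW)]
        exact span_le_of_forall_mem (h.trans hW) fun s hs =>
          self_mem_locSpan (h.trans hW) (Or.inr hs)
    exact hle hxW'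
  · refine span_le_of_forall_mem hW fun s hs => ?_
    rcases hs with hs | hs
    · refine le_supSub_left P Q W ?_
      rw [eS W hW]
      exact self_mem_locSpan hW hs
    · refine le_supSub_right P Q W ?_
      rw [eT W hW]
      exact self_mem_locSpan hW hs

theorem exists_fg_mem_all {ι : Type*} (t : Finset ι) (U : ι → X.Opens) (S : ∀ i, Set Γ(F, U i))
    (h : ∀ i ∈ t, ∃ P : Sub F, FG ⊤ P ∧ ∀ s ∈ S i, s ∈ P.carrier (U i)) :
    ∃ P : Sub F, FG ⊤ P ∧ ∀ i ∈ t, ∀ s ∈ S i, s ∈ P.carrier (U i) := by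
  classical
  induction t using Finset.induction_on with
  | empty =>
    exact ⟨locSpan (V := (⊤ : X.Opens)) ∅, fg_locSpan Set.finite_empty, by simp⟩
  | insert i t hi ih =>
    obtain ⟨P, hP, hP'⟩ := h i (Finset.mem_insert_self i t)
    obtain ⟨Q, hQ, hQ'⟩ := ih fun j hj => h j (Finset.mem_insert_of_mem hj)
    refine ⟨supSub P Q, fg_supSub hP hQ, fun j hj s hs => ?_⟩
    rcases Finset.mem_insert.mp hj with rfl | hj
    · exact le_supSub_left P Q _ (hP' s hs)
    · exact le_supSub_right P Q _ (hQ' j hj s hs)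

end Sup

variable {X : Scheme.{u}} (B : RelSpec.QCAlg X)

theorem exists_subalgebra_through (U : X.affineOpens) (b : bSec B U.1)
    (hext : ∀ S : Set Γ(B.toModule, U.1), S.Finite →
      ∃ Q : Sub B.toModule, FG ⊤ Q ∧ AgreeOn U.1 Q (locSpan S)) :
    ∃ (B' : RelSpec.QCAlg X) (φ : B' ⟶ B),
      (∀ V : X.Opens, Function.Injective (φ.hom.app (op V)).hom) ∧
      (∀ V : X.affineOpens, (B'.str.app (op (V : X.Opens))).hom.FiniteType) ∧
      b ∈ Set.range (φ.hom.app (op (U : X.Opens))).hom := by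
  obtain ⟨Q, hQ, hQP⟩ := hext {ofB B b} (Set.finite_singleton _)
  have hb : ofB B b ∈ Q.carrier U.1 := by
    rw [hQP _ le_rfl]
    have h := self_mem_locSpan (F := B.toModule) (le_refl U.1) (Set.mem_singleton (ofB B b))
    rwa [res_self] at h
  refine ⟨algSub hQ, algSubι hQ, fun V => Subtype.val_injective,
    fun V => finiteType_str hQ V.2, ⟨(⟨b, closureAt_le B Q _
      (Subring.subset_closure (Or.inr ⟨ofB B b, hb, rfl⟩))⟩ : algCarrier B Q U.1), rfl⟩⟩

theorem exists_generating (hB : ∀ U : X.affineOpens, (B.str.app (op (U : X.Opens))).hom.FiniteType)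
    [CompactSpace X]
    (hext : ∀ (U : X.affineOpens) (S : Set Γ(B.toModule, U.1)), S.Finite →
      ∃ Q : Sub B.toModule, FG ⊤ Q ∧ AgreeOn U.1 Q (locSpan S)) :
    ∃ P : Sub B.toModule, FG ⊤ P ∧ ∀ U : X.affineOpens, closureAt B P U.1 = ⊤ := by
  classical
  obtain ⟨t, ht⟩ := isCompact_univ.elim_finite_subcover (fun U : X.affineOpens => (U.1 : Set X))
    (fun U => U.1.2) (fun x _ => by
      obtain ⟨_, ⟨V, hV, rfl⟩, hxV, -⟩ :=
        X.isBasis_affineOpens.exists_subset_of_mem_open (Set.mem_univ x) isOpen_univ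
      exact Set.mem_iUnion.mpr ⟨⟨V, hV⟩, hxV⟩)
  have hfin : ∀ U : X.affineOpens, ∃ S : Set (bSec B U.1), S.Finite ∧
      Subring.closure (Set.range (bStr B U.1) ∪ S) = ⊤ := by
    intro U
    let _ := (bStr B U.1).toAlgebra
    obtain ⟨⟨S, hS⟩⟩ := (show Algebra.FiniteType Γ(X, U.1) (bSec B U.1) from hB U)
    refine ⟨(S : Set (bSec B U.1)), S.finite_toSet, ?_⟩
    have h1 := congrArg Subalgebra.toSubring hS
    rw [Algebra.adjoin_eq_ring_closure, Algebra.top_toSubring] at h1
    exact h1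
  choose S hS hST using hfin
  obtain ⟨P, hP, hP'⟩ := exists_fg_mem_all t (fun U => U.1) (fun U => ofB B '' S U) (fun U _ => by
    obtain ⟨Q, hQ, hQP⟩ := hext U _ ((hS U).image (ofB B))
    refine ⟨Q, hQ, fun s hs => ?_⟩
    rw [hQP _ le_rfl]
    have h := self_mem_locSpan (le_refl U.1) hs
    rwa [res_self] at h)
  refine ⟨P, hP, fun U => top_le_iff.mp fun x _ => ?_⟩
  rw [← algCarrier_eq_of_isAffineOpen hP U.2]
  intro p hp
  obtain ⟨W, hW, hpW⟩ := Set.mem_iUnion₂.mp (ht (Set.mem_univ p))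
  have hWtop : closureAt B P W.1 = ⊤ := top_le_iff.mp (hST W ▸ Subring.closure_le.mpr (by
    rintro y (⟨a, rfl⟩ | hy)
    · exact Subring.subset_closure (Or.inl ⟨a, rfl⟩)
    · exact Subring.subset_closure (Or.inr ⟨ofB B y, hP' W hW _ ⟨y, hy, rfl⟩, rfl⟩)))
  obtain ⟨f, g, hfg, hpf⟩ := exists_basicOpen_le_affine_inter U.2 W.2 p ⟨hp, hpW⟩
  have hle : X.basicOpen g ≤ U.1 := hfg ▸ X.basicOpen_le f
  refine ⟨X.basicOpen g, hle, hfg ▸ hpf, ?_⟩
  let _ : Algebra (bSec B W.1) (bSec B (X.basicOpen g)) := (bRes B (X.basicOpen_le g)).hom.toAlgebra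
  have : IsLocalization.Away (bStr B W.1 g) (bSec B (X.basicOpen g)) := B.isQC W.1 W.2 g
  obtain ⟨⟨a, ⟨_, n, rfl⟩⟩, ha⟩ :=
    IsLocalization.surj (Submonoid.powers (bStr B W.1 g)) (bRes B hle x)
  have ha' : bRes B hle x * bStr B (X.basicOpen g) (resO X (X.basicOpen_le g) g) ^ n =
      bRes B (X.basicOpen_le g) a := by
    rw [← bRes_str, ← map_pow]; exact ha
  have hu : IsUnit (resO X (X.basicOpen_le g) g) := RingedSpace.isUnit_res_basicOpen _ g
  obtain ⟨v, hv⟩ := hu.exists_right_inv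
  have key : bRes B hle x = bRes B (X.basicOpen_le g) a * bStr B (X.basicOpen g) v ^ n := by
    rw [← ha', mul_assoc, ← mul_pow, ← map_mul, hv, map_one, one_pow, mul_one]
  rw [key]
  have hv' : bStr B (X.basicOpen g) v ∈ closureAt B P (X.basicOpen g) :=
    Subring.subset_closure (Or.inl ⟨v, rfl⟩)
  exact mul_mem (closureAt_res B P _ (hWtop ▸ Subring.mem_top a)) (pow_mem hv' n)

theorem exists_generating_module (hB : ∀ U : X.affineOpens, (B.str.app (op (U : X.Opens))).hom.FiniteType)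
    [CompactSpace X]
    (hext : ∀ (U : X.affineOpens) (S : Set Γ(B.toModule, U.1)), S.Finite →
      ∃ Q : Sub B.toModule, FG ⊤ Q ∧ AgreeOn U.1 Q (locSpan S)) :
    ∃ (E : X.Modules) (j : E ⟶ B.toModule), Mono j ∧ E.IsQuasicoherent ∧ E.IsFiniteType ∧
      ∀ U : X.affineOpens,
        Subring.closure (Set.range (B.str.app (op (U : X.Opens))).hom ∪
          Set.range (fun e : E.val.obj (op (U : X.Opens)) ↦
            (show B.presheaf.obj (op (U : X.Opens)) from (j.val.app (op (U : X.Opens))).hom e))) = ⊤ := by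
  obtain ⟨P, hP, hP'⟩ := exists_generating B hB hext
  refine ⟨toMod P, toModι P, inferInstance, (isQuasicoherent_isFiniteType_toMod hP).1,
    (isQuasicoherent_isFiniteType_toMod hP).2, fun U => top_le_iff.mp ((hP' U).ge.trans ?_)⟩
  refine Subring.closure_mono (Set.union_subset_union_right _ ?_)
  rintro _ ⟨y, hy, rfl⟩
  obtain ⟨y', hy'⟩ := (mem_iff_exists P y).mp hy
  exact ⟨y', hy'⟩

end Groth.Agent.AlgSub72
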